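import Mathlib
import Cfsg.Agent.Lib.Helper6.ChevNorm
import Cfsg.Prelude.Def_ChevE6

/-!
# U_p and its normaliser: checks for E6 (helper6)

Generated kernel checks.
-/

set_option autoImplicit false

namespace Cfsg.Agent.Lib.Helper6.ChevNormData

open Cfsg.Lie Cfsg.Agent.Lib.Helper6.ChevNorm

set_option maxHeartbeats 0 in
set_option maxRecDepth 100000 in
theorem reflE6_0 : reflCheck chevE6 0 := by
  decide +kernel

set_option maxHeartbeats 0 in
set_option maxRecDepth 100000 in
theorem ncE6_0_neg : normCheckL chevE6 0 (List.range' 0 36) := by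
  decide +kernel

set_option maxHeartbeats 0 in
set_option maxRecDepth 100000 in
theorem ncE6_0_0 : normCheckL chevE6 0 (List.range' 36 12) := by
  decide +kernel

set_option maxHeartbeats 0 in
set_option maxRecDepth 100000 in
theorem ncE6_0_1 : normCheckL chevE6 0 (List.range' 48 12) := by
  decide +kernel

set_option maxHeartbeats 0 in
set_option maxRecDepth 100000 in
theorem ncE6_0_2 : normCheckL chevE6 0 (List.range' 60 12) := by
  decide +kernel

theorem ncE6_0 (s : ℕ) (h2 : s < 72) : normCheck chevE6 0 s := by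
  by_cases h36 : s < 36
  · exact ncE6_0_neg s (List.mem_range'_1.mpr ⟨by omega, by omega⟩)
  by_cases h48 : s < 48
  · exact ncE6_0_0 s (List.mem_range'_1.mpr ⟨by omega, by omega⟩)
  by_cases h60 : s < 60
  · exact ncE6_0_1 s (List.mem_range'_1.mpr ⟨by omega, by omega⟩)
  exact ncE6_0_2 s (List.mem_range'_1.mpr ⟨by omega, by omega⟩)

set_option maxHeartbeats 0 in
set_option maxRecDepth 100000 in
theorem reflE6_1 : reflCheck chevE6 1 := by
  decide +kernel

set_option maxHeartbeats 0 in
set_option maxRecDepth 100000 in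
theorem ncE6_1_neg : normCheckL chevE6 1 (List.range' 0 36) := by
  decide +kernel

set_option maxHeartbeats 0 in
set_option maxRecDepth 100000 in
theorem ncE6_1_0 : normCheckL chevE6 1 (List.range' 36 12) := by
  decide +kernel

set_option maxHeartbeats 0 in
set_option maxRecDepth 100000 in
theorem ncE6_1_1 : normCheckL chevE6 1 (List.range' 48 12) := by
  decide +kernel

set_option maxHeartbeats 0 in
set_option maxRecDepth 100000 in
theorem ncE6_1_2 : normCheckL chevE6 1 (List.range' 60 12) := by
  decide +kernel

theorem ncE6_1 (s : ℕ) (h2 : s < 72) : normCheck chevE6 1 s := by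
  by_cases h36 : s < 36
  · exact ncE6_1_neg s (List.mem_range'_1.mpr ⟨by omega, by omega⟩)
  by_cases h48 : s < 48
  · exact ncE6_1_0 s (List.mem_range'_1.mpr ⟨by omega, by omega⟩)
  by_cases h60 : s < 60
  · exact ncE6_1_1 s (List.mem_range'_1.mpr ⟨by omega, by omega⟩)
  exact ncE6_1_2 s (List.mem_range'_1.mpr ⟨by omega, by omega⟩)

set_option maxHeartbeats 0 in
set_option maxRecDepth 100000 in
theorem reflE6_2 : reflCheck chevE6 2 := by
  decide +kernel

set_option maxHeartbeats 0 in
set_option maxRecDepth 100000 in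
theorem ncE6_2_neg : normCheckL chevE6 2 (List.range' 0 36) := by
  decide +kernel

set_option maxHeartbeats 0 in
set_option maxRecDepth 100000 in
theorem ncE6_2_0 : normCheckL chevE6 2 (List.range' 36 12) := by
  decide +kernel

set_option maxHeartbeats 0 in
set_option maxRecDepth 100000 in
theorem ncE6_2_1 : normCheckL chevE6 2 (List.range' 48 12) := by
  decide +kernel

set_option maxHeartbeats 0 in
set_option maxRecDepth 100000 in
theorem ncE6_2_2 : normCheckL chevE6 2 (List.range' 60 12) := by
  decide +kernel

theorem ncE6_2 (s : ℕ) (h2 : s < 72) : normCheck chevE6 2 s := by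
  by_cases h36 : s < 36
  · exact ncE6_2_neg s (List.mem_range'_1.mpr ⟨by omega, by omega⟩)
  by_cases h48 : s < 48
  · exact ncE6_2_0 s (List.mem_range'_1.mpr ⟨by omega, by omega⟩)
  by_cases h60 : s < 60
  · exact ncE6_2_1 s (List.mem_range'_1.mpr ⟨by omega, by omega⟩)
  exact ncE6_2_2 s (List.mem_range'_1.mpr ⟨by omega, by omega⟩)

set_option maxHeartbeats 0 in
set_option maxRecDepth 100000 in
theorem reflE6_3 : reflCheck chevE6 3 := by
  decide +kernel

set_option maxHeartbeats 0 in
set_option maxRecDepth 100000 in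
theorem ncE6_3_neg : normCheckL chevE6 3 (List.range' 0 36) := by
  decide +kernel

set_option maxHeartbeats 0 in
set_option maxRecDepth 100000 in
theorem ncE6_3_0 : normCheckL chevE6 3 (List.range' 36 12) := by
  decide +kernel

set_option maxHeartbeats 0 in
set_option maxRecDepth 100000 in
theorem ncE6_3_1 : normCheckL chevE6 3 (List.range' 48 12) := by
  decide +kernel

set_option maxHeartbeats 0 in
set_option maxRecDepth 100000 in
theorem ncE6_3_2 : normCheckL chevE6 3 (List.range' 60 12) := by
  decide +kernel

theorem ncE6_3 (s : ℕ) (h2 : s < 72) : normCheck chevE6 3 s := by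
  by_cases h36 : s < 36
  · exact ncE6_3_neg s (List.mem_range'_1.mpr ⟨by omega, by omega⟩)
  by_cases h48 : s < 48
  · exact ncE6_3_0 s (List.mem_range'_1.mpr ⟨by omega, by omega⟩)
  by_cases h60 : s < 60
  · exact ncE6_3_1 s (List.mem_range'_1.mpr ⟨by omega, by omega⟩)
  exact ncE6_3_2 s (List.mem_range'_1.mpr ⟨by omega, by omega⟩)

set_option maxHeartbeats 0 in
set_option maxRecDepth 100000 in
theorem reflE6_4 : reflCheck chevE6 4 := by
  decide +kernel

set_option maxHeartbeats 0 in
set_option maxRecDepth 100000 in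
theorem ncE6_4_neg : normCheckL chevE6 4 (List.range' 0 36) := by
  decide +kernel

set_option maxHeartbeats 0 in
set_option maxRecDepth 100000 in
theorem ncE6_4_0 : normCheckL chevE6 4 (List.range' 36 12) := by
  decide +kernel

set_option maxHeartbeats 0 in
set_option maxRecDepth 100000 in
theorem ncE6_4_1 : normCheckL chevE6 4 (List.range' 48 12) := by
  decide +kernel

set_option maxHeartbeats 0 in
set_option maxRecDepth 100000 in
theorem ncE6_4_2 : normCheckL chevE6 4 (List.range' 60 12) := by
  decide +kernel

theorem ncE6_4 (s : ℕ) (h2 : s < 72) : normCheck chevE6 4 s := by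
  by_cases h36 : s < 36
  · exact ncE6_4_neg s (List.mem_range'_1.mpr ⟨by omega, by omega⟩)
  by_cases h48 : s < 48
  · exact ncE6_4_0 s (List.mem_range'_1.mpr ⟨by omega, by omega⟩)
  by_cases h60 : s < 60
  · exact ncE6_4_1 s (List.mem_range'_1.mpr ⟨by omega, by omega⟩)
  exact ncE6_4_2 s (List.mem_range'_1.mpr ⟨by omega, by omega⟩)

set_option maxHeartbeats 0 in
set_option maxRecDepth 100000 in
theorem reflE6_5 : reflCheck chevE6 5 := by
  decide +kernel

set_option maxHeartbeats 0 in
set_option maxRecDepth 100000 in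
theorem ncE6_5_neg : normCheckL chevE6 5 (List.range' 0 36) := by
  decide +kernel

set_option maxHeartbeats 0 in
set_option maxRecDepth 100000 in
theorem ncE6_5_0 : normCheckL chevE6 5 (List.range' 36 12) := by
  decide +kernel

set_option maxHeartbeats 0 in
set_option maxRecDepth 100000 in
theorem ncE6_5_1 : normCheckL chevE6 5 (List.range' 48 12) := by
  decide +kernel

set_option maxHeartbeats 0 in
set_option maxRecDepth 100000 in
theorem ncE6_5_2 : normCheckL chevE6 5 (List.range' 60 12) := by
  decide +kernel

theorem ncE6_5 (s : ℕ) (h2 : s < 72) : normCheck chevE6 5 s := by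
  by_cases h36 : s < 36
  · exact ncE6_5_neg s (List.mem_range'_1.mpr ⟨by omega, by omega⟩)
  by_cases h48 : s < 48
  · exact ncE6_5_0 s (List.mem_range'_1.mpr ⟨by omega, by omega⟩)
  by_cases h60 : s < 60
  · exact ncE6_5_1 s (List.mem_range'_1.mpr ⟨by omega, by omega⟩)
  exact ncE6_5_2 s (List.mem_range'_1.mpr ⟨by omega, by omega⟩)


end Cfsg.Agent.Lib.Helper6.ChevNormData
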