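import Mathlib
import Cfsg.Agent.Lib.Helper6.ChevNorm
import Cfsg.Prelude.Def_ChevE7

/-!
# U_p and its normaliser: checks for E7, fundamental root 2 (helper6)

Generated kernel checks.
-/

set_option autoImplicit false

namespace Cfsg.Agent.Lib.Helper6.ChevNormData

open Cfsg.Lie Cfsg.Agent.Lib.Helper6.ChevNorm

set_option maxHeartbeats 0 in
set_option maxRecDepth 100000 in
theorem reflE7_2 : reflCheck chevE7 2 := by
  decide +kernel

set_option maxHeartbeats 0 in
set_option maxRecDepth 100000 in
theorem ncE7_2_neg : normCheckL chevE7 2 (List.range' 0 63) := by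
  decide +kernel

set_option maxHeartbeats 0 in
set_option maxRecDepth 100000 in
theorem ncE7_2_0 : normCheckL chevE7 2 (List.range' 63 9) := by
  decide +kernel

set_option maxHeartbeats 0 in
set_option maxRecDepth 100000 in
theorem ncE7_2_1 : normCheckL chevE7 2 (List.range' 72 9) := by
  decide +kernel

set_option maxHeartbeats 0 in
set_option maxRecDepth 100000 in
theorem ncE7_2_2 : normCheckL chevE7 2 (List.range' 81 9) := by
  decide +kernel

set_option maxHeartbeats 0 in
set_option maxRecDepth 100000 in
theorem ncE7_2_3 : normCheckL chevE7 2 (List.range' 90 9) := by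
  decide +kernel

set_option maxHeartbeats 0 in
set_option maxRecDepth 100000 in
theorem ncE7_2_4 : normCheckL chevE7 2 (List.range' 99 9) := by
  decide +kernel

set_option maxHeartbeats 0 in
set_option maxRecDepth 100000 in
theorem ncE7_2_5 : normCheckL chevE7 2 (List.range' 108 9) := by
  decide +kernel

set_option maxHeartbeats 0 in
set_option maxRecDepth 100000 in
theorem ncE7_2_6 : normCheckL chevE7 2 (List.range' 117 9) := by
  decide +kernel

theorem ncE7_2 (s : ℕ) (h2 : s < 126) : normCheck chevE7 2 s := by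
  by_cases h63 : s < 63
  · exact ncE7_2_neg s (List.mem_range'_1.mpr ⟨by omega, by omega⟩)
  by_cases h72 : s < 72
  · exact ncE7_2_0 s (List.mem_range'_1.mpr ⟨by omega, by omega⟩)
  by_cases h81 : s < 81
  · exact ncE7_2_1 s (List.mem_range'_1.mpr ⟨by omega, by omega⟩)
  by_cases h90 : s < 90
  · exact ncE7_2_2 s (List.mem_range'_1.mpr ⟨by omega, by omega⟩)
  by_cases h99 : s < 99
  · exact ncE7_2_3 s (List.mem_range'_1.mpr ⟨by omega, by omega⟩)
  by_cases h108 : s < 108
  · exact ncE7_2_4 s (List.mem_range'_1.mpr ⟨by omega, by omega⟩)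
  by_cases h117 : s < 117
  · exact ncE7_2_5 s (List.mem_range'_1.mpr ⟨by omega, by omega⟩)
  exact ncE7_2_6 s (List.mem_range'_1.mpr ⟨by omega, by omega⟩)


end Cfsg.Agent.Lib.Helper6.ChevNormData
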