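import Mathlib
import Cfsg.Agent.Lib.Helper6.ChevNorm
import Cfsg.Prelude.Def_ChevE8

/-!
# U_p and its normaliser: checks for E8, fundamental root 3 (helper6)

Generated kernel checks.
-/

set_option autoImplicit false

namespace Cfsg.Agent.Lib.Helper6.ChevNormData

open Cfsg.Lie Cfsg.Agent.Lib.Helper6.ChevNorm

set_option maxHeartbeats 0 in
set_option maxRecDepth 100000 in
theorem reflE8_3 : reflCheck chevE8 3 := by
  decide +kernel

set_option maxHeartbeats 0 in
set_option maxRecDepth 100000 in
theorem ncE8_3_neg : normCheckL chevE8 3 (List.range' 0 120) := by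
  decide +kernel

set_option maxHeartbeats 0 in
set_option maxRecDepth 100000 in
theorem ncE8_3_0 : normCheckL chevE8 3 (List.range' 120 6) := by
  decide +kernel

set_option maxHeartbeats 0 in
set_option maxRecDepth 100000 in
theorem ncE8_3_1 : normCheckL chevE8 3 (List.range' 126 6) := by
  decide +kernel

set_option maxHeartbeats 0 in
set_option maxRecDepth 100000 in
theorem ncE8_3_2 : normCheckL chevE8 3 (List.range' 132 6) := by
  decide +kernel

set_option maxHeartbeats 0 in
set_option maxRecDepth 100000 in
theorem ncE8_3_3 : normCheckL chevE8 3 (List.range' 138 6) := by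
  decide +kernel

set_option maxHeartbeats 0 in
set_option maxRecDepth 100000 in
theorem ncE8_3_4 : normCheckL chevE8 3 (List.range' 144 6) := by
  decide +kernel

set_option maxHeartbeats 0 in
set_option maxRecDepth 100000 in
theorem ncE8_3_5 : normCheckL chevE8 3 (List.range' 150 6) := by
  decide +kernel

set_option maxHeartbeats 0 in
set_option maxRecDepth 100000 in
theorem ncE8_3_6 : normCheckL chevE8 3 (List.range' 156 6) := by
  decide +kernel

set_option maxHeartbeats 0 in
set_option maxRecDepth 100000 in
theorem ncE8_3_7 : normCheckL chevE8 3 (List.range' 162 6) := by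
  decide +kernel

set_option maxHeartbeats 0 in
set_option maxRecDepth 100000 in
theorem ncE8_3_8 : normCheckL chevE8 3 (List.range' 168 6) := by
  decide +kernel

set_option maxHeartbeats 0 in
set_option maxRecDepth 100000 in
theorem ncE8_3_9 : normCheckL chevE8 3 (List.range' 174 6) := by
  decide +kernel

set_option maxHeartbeats 0 in
set_option maxRecDepth 100000 in
theorem ncE8_3_10 : normCheckL chevE8 3 (List.range' 180 6) := by
  decide +kernel

set_option maxHeartbeats 0 in
set_option maxRecDepth 100000 in
theorem ncE8_3_11 : normCheckL chevE8 3 (List.range' 186 6) := by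
  decide +kernel

set_option maxHeartbeats 0 in
set_option maxRecDepth 100000 in
theorem ncE8_3_12 : normCheckL chevE8 3 (List.range' 192 6) := by
  decide +kernel

set_option maxHeartbeats 0 in
set_option maxRecDepth 100000 in
theorem ncE8_3_13 : normCheckL chevE8 3 (List.range' 198 6) := by
  decide +kernel

set_option maxHeartbeats 0 in
set_option maxRecDepth 100000 in
theorem ncE8_3_14 : normCheckL chevE8 3 (List.range' 204 6) := by
  decide +kernel

set_option maxHeartbeats 0 in
set_option maxRecDepth 100000 in
theorem ncE8_3_15 : normCheckL chevE8 3 (List.range' 210 6) := by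
  decide +kernel

set_option maxHeartbeats 0 in
set_option maxRecDepth 100000 in
theorem ncE8_3_16 : normCheckL chevE8 3 (List.range' 216 6) := by
  decide +kernel

set_option maxHeartbeats 0 in
set_option maxRecDepth 100000 in
theorem ncE8_3_17 : normCheckL chevE8 3 (List.range' 222 6) := by
  decide +kernel

set_option maxHeartbeats 0 in
set_option maxRecDepth 100000 in
theorem ncE8_3_18 : normCheckL chevE8 3 (List.range' 228 6) := by
  decide +kernel

set_option maxHeartbeats 0 in
set_option maxRecDepth 100000 in
theorem ncE8_3_19 : normCheckL chevE8 3 (List.range' 234 6) := by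
  decide +kernel

theorem ncE8_3 (s : ℕ) (h2 : s < 240) : normCheck chevE8 3 s := by
  by_cases h120 : s < 120
  · exact ncE8_3_neg s (List.mem_range'_1.mpr ⟨by omega, by omega⟩)
  by_cases h126 : s < 126
  · exact ncE8_3_0 s (List.mem_range'_1.mpr ⟨by omega, by omega⟩)
  by_cases h132 : s < 132
  · exact ncE8_3_1 s (List.mem_range'_1.mpr ⟨by omega, by omega⟩)
  by_cases h138 : s < 138
  · exact ncE8_3_2 s (List.mem_range'_1.mpr ⟨by omega, by omega⟩)
  by_cases h144 : s < 144
  · exact ncE8_3_3 s (List.mem_range'_1.mpr ⟨by omega, by omega⟩)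
  by_cases h150 : s < 150
  · exact ncE8_3_4 s (List.mem_range'_1.mpr ⟨by omega, by omega⟩)
  by_cases h156 : s < 156
  · exact ncE8_3_5 s (List.mem_range'_1.mpr ⟨by omega, by omega⟩)
  by_cases h162 : s < 162
  · exact ncE8_3_6 s (List.mem_range'_1.mpr ⟨by omega, by omega⟩)
  by_cases h168 : s < 168
  · exact ncE8_3_7 s (List.mem_range'_1.mpr ⟨by omega, by omega⟩)
  by_cases h174 : s < 174
  · exact ncE8_3_8 s (List.mem_range'_1.mpr ⟨by omega, by omega⟩)
  by_cases h180 : s < 180
  · exact ncE8_3_9 s (List.mem_range'_1.mpr ⟨by omega, by omega⟩)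
  by_cases h186 : s < 186
  · exact ncE8_3_10 s (List.mem_range'_1.mpr ⟨by omega, by omega⟩)
  by_cases h192 : s < 192
  · exact ncE8_3_11 s (List.mem_range'_1.mpr ⟨by omega, by omega⟩)
  by_cases h198 : s < 198
  · exact ncE8_3_12 s (List.mem_range'_1.mpr ⟨by omega, by omega⟩)
  by_cases h204 : s < 204
  · exact ncE8_3_13 s (List.mem_range'_1.mpr ⟨by omega, by omega⟩)
  by_cases h210 : s < 210
  · exact ncE8_3_14 s (List.mem_range'_1.mpr ⟨by omega, by omega⟩)
  by_cases h216 : s < 216
  · exact ncE8_3_15 s (List.mem_range'_1.mpr ⟨by omega, by omega⟩)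
  by_cases h222 : s < 222
  · exact ncE8_3_16 s (List.mem_range'_1.mpr ⟨by omega, by omega⟩)
  by_cases h228 : s < 228
  · exact ncE8_3_17 s (List.mem_range'_1.mpr ⟨by omega, by omega⟩)
  by_cases h234 : s < 234
  · exact ncE8_3_18 s (List.mem_range'_1.mpr ⟨by omega, by omega⟩)
  exact ncE8_3_19 s (List.mem_range'_1.mpr ⟨by omega, by omega⟩)


end Cfsg.Agent.Lib.Helper6.ChevNormData
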