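import Mathlib
import Cfsg.Agent.Lib.Helper6.ChevNorm
import Cfsg.Prelude.Def_ChevG2
import Cfsg.Prelude.Def_ChevB2
import Cfsg.Prelude.Def_ChevD4
import Cfsg.Prelude.Def_ChevF4

/-!
# U_p and its normaliser: checks for the small types (helper6)

Generated kernel checks.
-/

set_option autoImplicit false

namespace Cfsg.Agent.Lib.Helper6.ChevNormData

open Cfsg.Lie Cfsg.Agent.Lib.Helper6.ChevNorm

set_option maxHeartbeats 0 in
set_option maxRecDepth 100000 in
theorem reflG2_0 : reflCheck chevG2 0 := by
  decide +kernel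

set_option maxHeartbeats 0 in
set_option maxRecDepth 100000 in
theorem ncG2_0_neg : normCheckL chevG2 0 (List.range' 0 6) := by
  decide +kernel

set_option maxHeartbeats 0 in
set_option maxRecDepth 100000 in
theorem ncG2_0_0 : normCheckL chevG2 0 (List.range' 6 6) := by
  decide +kernel

theorem ncG2_0 (s : ℕ) (h2 : s < 12) : normCheck chevG2 0 s := by
  by_cases h6 : s < 6
  · exact ncG2_0_neg s (List.mem_range'_1.mpr ⟨by omega, by omega⟩)
  exact ncG2_0_0 s (List.mem_range'_1.mpr ⟨by omega, by omega⟩)

set_option maxHeartbeats 0 in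
set_option maxRecDepth 100000 in
theorem reflG2_1 : reflCheck chevG2 1 := by
  decide +kernel

set_option maxHeartbeats 0 in
set_option maxRecDepth 100000 in
theorem ncG2_1_neg : normCheckL chevG2 1 (List.range' 0 6) := by
  decide +kernel

set_option maxHeartbeats 0 in
set_option maxRecDepth 100000 in
theorem ncG2_1_0 : normCheckL chevG2 1 (List.range' 6 6) := by
  decide +kernel

theorem ncG2_1 (s : ℕ) (h2 : s < 12) : normCheck chevG2 1 s := by
  by_cases h6 : s < 6
  · exact ncG2_1_neg s (List.mem_range'_1.mpr ⟨by omega, by omega⟩)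
  exact ncG2_1_0 s (List.mem_range'_1.mpr ⟨by omega, by omega⟩)

set_option maxHeartbeats 0 in
set_option maxRecDepth 100000 in
theorem reflB2_0 : reflCheck chevB2 0 := by
  decide +kernel

set_option maxHeartbeats 0 in
set_option maxRecDepth 100000 in
theorem ncB2_0_neg : normCheckL chevB2 0 (List.range' 0 4) := by
  decide +kernel

set_option maxHeartbeats 0 in
set_option maxRecDepth 100000 in
theorem ncB2_0_0 : normCheckL chevB2 0 (List.range' 4 4) := by
  decide +kernel

theorem ncB2_0 (s : ℕ) (h2 : s < 8) : normCheck chevB2 0 s := by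
  by_cases h4 : s < 4
  · exact ncB2_0_neg s (List.mem_range'_1.mpr ⟨by omega, by omega⟩)
  exact ncB2_0_0 s (List.mem_range'_1.mpr ⟨by omega, by omega⟩)

set_option maxHeartbeats 0 in
set_option maxRecDepth 100000 in
theorem reflB2_1 : reflCheck chevB2 1 := by
  decide +kernel

set_option maxHeartbeats 0 in
set_option maxRecDepth 100000 in
theorem ncB2_1_neg : normCheckL chevB2 1 (List.range' 0 4) := by
  decide +kernel

set_option maxHeartbeats 0 in
set_option maxRecDepth 100000 in
theorem ncB2_1_0 : normCheckL chevB2 1 (List.range' 4 4) := by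
  decide +kernel

theorem ncB2_1 (s : ℕ) (h2 : s < 8) : normCheck chevB2 1 s := by
  by_cases h4 : s < 4
  · exact ncB2_1_neg s (List.mem_range'_1.mpr ⟨by omega, by omega⟩)
  exact ncB2_1_0 s (List.mem_range'_1.mpr ⟨by omega, by omega⟩)

set_option maxHeartbeats 0 in
set_option maxRecDepth 100000 in
theorem reflD4_0 : reflCheck chevD4 0 := by
  decide +kernel

set_option maxHeartbeats 0 in
set_option maxRecDepth 100000 in
theorem ncD4_0_neg : normCheckL chevD4 0 (List.range' 0 12) := by
  decide +kernel

set_option maxHeartbeats 0 in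
set_option maxRecDepth 100000 in
theorem ncD4_0_0 : normCheckL chevD4 0 (List.range' 12 12) := by
  decide +kernel

theorem ncD4_0 (s : ℕ) (h2 : s < 24) : normCheck chevD4 0 s := by
  by_cases h12 : s < 12
  · exact ncD4_0_neg s (List.mem_range'_1.mpr ⟨by omega, by omega⟩)
  exact ncD4_0_0 s (List.mem_range'_1.mpr ⟨by omega, by omega⟩)

set_option maxHeartbeats 0 in
set_option maxRecDepth 100000 in
theorem reflD4_1 : reflCheck chevD4 1 := by
  decide +kernel

set_option maxHeartbeats 0 in
set_option maxRecDepth 100000 in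
theorem ncD4_1_neg : normCheckL chevD4 1 (List.range' 0 12) := by
  decide +kernel

set_option maxHeartbeats 0 in
set_option maxRecDepth 100000 in
theorem ncD4_1_0 : normCheckL chevD4 1 (List.range' 12 12) := by
  decide +kernel

theorem ncD4_1 (s : ℕ) (h2 : s < 24) : normCheck chevD4 1 s := by
  by_cases h12 : s < 12
  · exact ncD4_1_neg s (List.mem_range'_1.mpr ⟨by omega, by omega⟩)
  exact ncD4_1_0 s (List.mem_range'_1.mpr ⟨by omega, by omega⟩)

set_option maxHeartbeats 0 in
set_option maxRecDepth 100000 in
theorem reflD4_2 : reflCheck chevD4 2 := by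
  decide +kernel

set_option maxHeartbeats 0 in
set_option maxRecDepth 100000 in
theorem ncD4_2_neg : normCheckL chevD4 2 (List.range' 0 12) := by
  decide +kernel

set_option maxHeartbeats 0 in
set_option maxRecDepth 100000 in
theorem ncD4_2_0 : normCheckL chevD4 2 (List.range' 12 12) := by
  decide +kernel

theorem ncD4_2 (s : ℕ) (h2 : s < 24) : normCheck chevD4 2 s := by
  by_cases h12 : s < 12
  · exact ncD4_2_neg s (List.mem_range'_1.mpr ⟨by omega, by omega⟩)
  exact ncD4_2_0 s (List.mem_range'_1.mpr ⟨by omega, by omega⟩)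

set_option maxHeartbeats 0 in
set_option maxRecDepth 100000 in
theorem reflD4_3 : reflCheck chevD4 3 := by
  decide +kernel

set_option maxHeartbeats 0 in
set_option maxRecDepth 100000 in
theorem ncD4_3_neg : normCheckL chevD4 3 (List.range' 0 12) := by
  decide +kernel

set_option maxHeartbeats 0 in
set_option maxRecDepth 100000 in
theorem ncD4_3_0 : normCheckL chevD4 3 (List.range' 12 12) := by
  decide +kernel

theorem ncD4_3 (s : ℕ) (h2 : s < 24) : normCheck chevD4 3 s := by
  by_cases h12 : s < 12
  · exact ncD4_3_neg s (List.mem_range'_1.mpr ⟨by omega, by omega⟩)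
  exact ncD4_3_0 s (List.mem_range'_1.mpr ⟨by omega, by omega⟩)

set_option maxHeartbeats 0 in
set_option maxRecDepth 100000 in
theorem reflF4_0 : reflCheck chevF4 0 := by
  decide +kernel

set_option maxHeartbeats 0 in
set_option maxRecDepth 100000 in
theorem ncF4_0_neg : normCheckL chevF4 0 (List.range' 0 24) := by
  decide +kernel

set_option maxHeartbeats 0 in
set_option maxRecDepth 100000 in
theorem ncF4_0_0 : normCheckL chevF4 0 (List.range' 24 12) := by
  decide +kernel

set_option maxHeartbeats 0 in
set_option maxRecDepth 100000 in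
theorem ncF4_0_1 : normCheckL chevF4 0 (List.range' 36 12) := by
  decide +kernel

theorem ncF4_0 (s : ℕ) (h2 : s < 48) : normCheck chevF4 0 s := by
  by_cases h24 : s < 24
  · exact ncF4_0_neg s (List.mem_range'_1.mpr ⟨by omega, by omega⟩)
  by_cases h36 : s < 36
  · exact ncF4_0_0 s (List.mem_range'_1.mpr ⟨by omega, by omega⟩)
  exact ncF4_0_1 s (List.mem_range'_1.mpr ⟨by omega, by omega⟩)

set_option maxHeartbeats 0 in
set_option maxRecDepth 100000 in
theorem reflF4_1 : reflCheck chevF4 1 := by
  decide +kernel

set_option maxHeartbeats 0 in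
set_option maxRecDepth 100000 in
theorem ncF4_1_neg : normCheckL chevF4 1 (List.range' 0 24) := by
  decide +kernel

set_option maxHeartbeats 0 in
set_option maxRecDepth 100000 in
theorem ncF4_1_0 : normCheckL chevF4 1 (List.range' 24 12) := by
  decide +kernel

set_option maxHeartbeats 0 in
set_option maxRecDepth 100000 in
theorem ncF4_1_1 : normCheckL chevF4 1 (List.range' 36 12) := by
  decide +kernel

theorem ncF4_1 (s : ℕ) (h2 : s < 48) : normCheck chevF4 1 s := by
  by_cases h24 : s < 24
  · exact ncF4_1_neg s (List.mem_range'_1.mpr ⟨by omega, by omega⟩)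
  by_cases h36 : s < 36
  · exact ncF4_1_0 s (List.mem_range'_1.mpr ⟨by omega, by omega⟩)
  exact ncF4_1_1 s (List.mem_range'_1.mpr ⟨by omega, by omega⟩)

set_option maxHeartbeats 0 in
set_option maxRecDepth 100000 in
theorem reflF4_2 : reflCheck chevF4 2 := by
  decide +kernel

set_option maxHeartbeats 0 in
set_option maxRecDepth 100000 in
theorem ncF4_2_neg : normCheckL chevF4 2 (List.range' 0 24) := by
  decide +kernel

set_option maxHeartbeats 0 in
set_option maxRecDepth 100000 in
theorem ncF4_2_0 : normCheckL chevF4 2 (List.range' 24 12) := by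
  decide +kernel

set_option maxHeartbeats 0 in
set_option maxRecDepth 100000 in
theorem ncF4_2_1 : normCheckL chevF4 2 (List.range' 36 12) := by
  decide +kernel

theorem ncF4_2 (s : ℕ) (h2 : s < 48) : normCheck chevF4 2 s := by
  by_cases h24 : s < 24
  · exact ncF4_2_neg s (List.mem_range'_1.mpr ⟨by omega, by omega⟩)
  by_cases h36 : s < 36
  · exact ncF4_2_0 s (List.mem_range'_1.mpr ⟨by omega, by omega⟩)
  exact ncF4_2_1 s (List.mem_range'_1.mpr ⟨by omega, by omega⟩)

set_option maxHeartbeats 0 in
set_option maxRecDepth 100000 in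
theorem reflF4_3 : reflCheck chevF4 3 := by
  decide +kernel

set_option maxHeartbeats 0 in
set_option maxRecDepth 100000 in
theorem ncF4_3_neg : normCheckL chevF4 3 (List.range' 0 24) := by
  decide +kernel

set_option maxHeartbeats 0 in
set_option maxRecDepth 100000 in
theorem ncF4_3_0 : normCheckL chevF4 3 (List.range' 24 12) := by
  decide +kernel

set_option maxHeartbeats 0 in
set_option maxRecDepth 100000 in
theorem ncF4_3_1 : normCheckL chevF4 3 (List.range' 36 12) := by
  decide +kernel

theorem ncF4_3 (s : ℕ) (h2 : s < 48) : normCheck chevF4 3 s := by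
  by_cases h24 : s < 24
  · exact ncF4_3_neg s (List.mem_range'_1.mpr ⟨by omega, by omega⟩)
  by_cases h36 : s < 36
  · exact ncF4_3_0 s (List.mem_range'_1.mpr ⟨by omega, by omega⟩)
  exact ncF4_3_1 s (List.mem_range'_1.mpr ⟨by omega, by omega⟩)


end Cfsg.Agent.Lib.Helper6.ChevNormData
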